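import Cfsg.Agent.H379.J2Spec
import Cfsg.Agent.H492.IMJ1
import Cfsg.Agent.H852.IMJTwo
import Cfsg.Agent.H978.NB.Char
import Cfsg.Agent.H368.NB.Sq

/-!
# S5003, the rows of the first two Janko groups (helper210)
-/

set_option autoImplicit false

namespace Cfsg.Agent.H210.NB

open Cfsg Cfsg.Agent.H7.NBp Cfsg.Agent.H718.NBIH
open Cfsg.Agent.H368.NBSq (NB.of_IM_sq)

/-- a number with known prime factorisation -/
theorem not_cube {p n : ℕ} (hp : p.Prime) (hn : n ∣ 2 ^ 7 * (5 ^ 2 * 7 ^ 2 * 11 ^ 2 * 19 ^ 2)) (h2 : p ≠ 2) :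
    ¬ p ^ 3 ∣ n := by
  intro h
  have h1 := h.trans hn
  have h3 : (p ^ 3).Coprime (2 ^ 7) := Nat.Coprime.pow _ _ ((Nat.coprime_primes hp Nat.prime_two).2 h2)
  have h4 : p ^ 3 ∣ (5 * 7 * 11 * 19) ^ 2 := by
    have := h3.dvd_of_dvd_mul_left h1
    rw [show (5 * 7 * 11 * 19) ^ 2 = 5 ^ 2 * 7 ^ 2 * 11 ^ 2 * 19 ^ 2 by norm_num]
    exact this
  have h5 : p ∣ 5 * 7 * 11 * 19 := hp.dvd_of_dvd_pow ((dvd_pow_self p (by norm_num)).trans h4)
  have key : ∀ {r : ℕ}, r.Prime → p ∣ r → p = r := fun hr hd => (Nat.prime_dvd_prime_iff_eq hp hr).1 hd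
  have h6 : p = 5 ∨ p = 7 ∨ p = 11 ∨ p = 19 := by
    rcases hp.dvd_mul.1 h5 with h | h
    · rcases hp.dvd_mul.1 h with h | h
      · rcases hp.dvd_mul.1 h with h | h
        · exact Or.inl (key (by norm_num) h)
        · exact Or.inr (Or.inl (key (by norm_num) h))
      · exact Or.inr (Or.inr (Or.inl (key (by norm_num) h)))
    · exact Or.inr (Or.inr (Or.inr (key (by norm_num) h)))
  rcases h6 with rfl | rfl | rfl | rfl <;> norm_num at h4

/-- **the row of the second Janko group** -/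
theorem nb_j2 {p : ℕ} [hp : Fact p.Prime] (h2 : p ≠ 2) (S : Type) [Group S] [Finite S] [IsSimpleGroup S]
    (h : Spor.IsoJ2 S) (ih : IH p (Nat.card S)) : NB p S := by
  have hc : Nat.card Spor.J2 = 604800 :=
    Cfsg.Agent.OrdDiv.table_spor Spor.J2 (.j2, 604800) (by decide +kernel) ⟨MulEquiv.refl _⟩
  obtain ⟨e⟩ := id h
  have hS : Nat.card S = 604800 := by rw [Nat.card_congr e.toEquiv, hc]
  by_cases hd : p ∣ Nat.card S
  swap
  · exact NB.of_not_dvd hd
  by_cases h3 : p = 3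
  · subst h3
    obtain ⟨g, hg⟩ := H379.J2Spec.exists_order H379.J2Spec.o15
    have hna : ¬ IsMulCommutative S := by
      intro hcom
      have h7 : Nat.Prime (Nat.card S) := by
        let _ : CommGroup S := { (inferInstance : Group S) with mul_comm := hcom.is_comm.comm }
        exact IsSimpleGroup.prime_card
      rw [hS] at h7
      norm_num at h7
    refine Cfsg.Agent.H978.NB.nb_of_order (r := 5) (a := 3) hna ih (by norm_num) (by norm_num)
      ⟨e.symm g, ?_⟩ (by rw [hS]; norm_num) ?_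
    · rw [MulEquiv.orderOf_eq e.symm g, hg]
    · intro j h1 h3
      interval_cases j <;> norm_num
  · refine NB.of_IM_sq (Cfsg.Agent.H852.IMJTwo.im_j2 h hd) ?_
    intro h4
    have h5 : p ^ 3 ∣ 2 ^ 7 * (5 ^ 2 * 7 ^ 2 * 11 ^ 2 * 19 ^ 2) := by
      rw [hS, show 604800 = 3 ^ 3 * (2 ^ 7 * 5 ^ 2 * 7) by norm_num] at h4
      have h6 : (p ^ 3).Coprime (3 ^ 3) := Nat.Coprime.pow _ _ ((Nat.coprime_primes hp.out Nat.prime_three).2 h3)
      refine (h6.dvd_of_dvd_mul_left h4).trans ⟨7 * 11 ^ 2 * 19 ^ 2, by norm_num⟩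
    exact not_cube hp.out dvd_rfl h2 h5

/-- **the row of the first Janko group** -/
theorem nb_j1 {p : ℕ} [hp : Fact p.Prime] (h2 : p ≠ 2) (S : Type) [Group S] [Finite S] [IsSimpleGroup S]
    (h : Spor.IsoJ1 S) (_ih : IH p (Nat.card S)) : NB p S := by
  by_cases hd : p ∣ Nat.card S
  swap
  · exact NB.of_not_dvd hd
  refine NB.of_IM_sq (Cfsg.Agent.H492.IMJ1.im_j1 h hd) ?_
  obtain ⟨e⟩ := h
  rw [Nat.card_congr e.toEquiv, Cfsg.Agent.H492.IMJ1.card_j1]
  intro h4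
  by_cases h3 : p = 3
  · subst h3; norm_num at h4
  rw [show 175560 = 3 * (2 ^ 3 * 5 * 7 * 11 * 19) by norm_num] at h4
  have h6 : (p ^ 3).Coprime 3 := by
    have := Nat.Coprime.pow 3 1 ((Nat.coprime_primes hp.out Nat.prime_three).2 h3)
    rwa [pow_one] at this
  exact not_cube hp.out dvd_rfl h2 ((h6.dvd_of_dvd_mul_left h4).trans ⟨2 ^ 4 * 5 * 7 * 11 * 19, by norm_num⟩)

end Cfsg.Agent.H210.NB
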